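import Cfsg.Agent.Lib.Fischer.Thm.M23.Local
import Cfsg.Agent.Lib.Fischer.Thm.Main

/-!
# The common neighbours of a non-commuting pair above type M(22)

They form one connected class with central cores, and at each of them the reflection class of dimension six.
-/

set_option autoImplicit false
set_option linter.unusedSectionVars false
set_option linter.style.haveILetI false

namespace Cfsg.Lib.Fischer.Thm.M23

open Cfsg Cfsg.Lib.Fischer Cfsg.Lib.Fischer.Relations

variable {G : Type*} [Group G] [Finite G] {D : Set G}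

/-- The set of common neighbours is stable under the group it generates. -/
theorem conj_common (hF : IsFischer D) {x e : G} {u : G}
    (hu : u ∈ Subgroup.closure (common D x e)) {z : G} (hz : z ∈ common D x e) : u * z * u⁻¹ ∈ common D x e := by
  have hD := hF.toTrans
  have hfix : ∀ i, (∀ w ∈ common D x e, Commute i w) → u * i * u⁻¹ = i := fun i hi => by
    have hle : Subgroup.closure (common D x e) ≤ Subgroup.centralizer ({i} : Set G) :=
      (Subgroup.closure_le _).2 fun w hw => Subgroup.mem_centralizer_singleton_iff.2 (hi w hw).eq.symm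
    rw [Subgroup.mem_centralizer_singleton_iff.1 (hle hu), mul_inv_cancel_right]
  have h1 := conj_perp hF u x hz.1
  rw [hfix x fun w hw => hw.1.2.2] at h1
  refine ⟨h1, ?_⟩
  have h2 := (Commute.conj_iff u).2 hz.2
  rwa [hfix e fun w hw => hw.2] at h2

/-- Chains of non-commuting common neighbours. -/
def Chain (C : Set G) (a b : G) : Prop :=
  Relation.ReflTransGen (fun p q => p ∈ C ∧ q ∈ C ∧ ¬ Commute p q) a b

theorem Chain.symm' {C : Set G} {a b : G} (h : Chain C a b) : Chain C b a := by
  induction h with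
  | refl => exact Relation.ReflTransGen.refl
  | tail _ h ih => exact Relation.ReflTransGen.head ⟨h.2.1, h.1, fun h' => h.2.2 h'.symm⟩ ih

theorem Chain.exists_conj {C : Set G} (hD : Trans D) (hC : C ⊆ D) {a b : G} (h : Chain C a b) :
    ∃ g ∈ Subgroup.closure C, g * a * g⁻¹ = b := by
  induction h with
  | refl => exact ⟨1, one_mem _, by simp⟩
  | @tail p q _ h ih =>
    obtain ⟨g, hg, e⟩ := ih
    refine ⟨p * q * g, mul_mem (mul_mem (Subgroup.subset_closure h.1) (Subgroup.subset_closure h.2.1)) hg, ?_⟩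
    calc p * q * g * a * (p * q * g)⁻¹ = p * q * (g * a * g⁻¹) * (q⁻¹ * p⁻¹) := by group
      _ = cj p (cj q p) := by rw [e, inv_eq hD (hC h.1), inv_eq hD (hC h.2.1)]; simp only [cj_def, mul_assoc]
      _ = q := by rw [← braid hD (hC h.1) (hC h.2.1) h.2.2, cj_cj hD (hC h.1)]

/-- Chains of commuting members of a set. -/
def Link (C : Set G) (a b : G) : Prop :=
  Relation.ReflTransGen (fun p q => p ∈ C ∧ q ∈ C ∧ Commute p q) a b

theorem Link.symm' {C : Set G} {a b : G} (h : Link C a b) : Link C b a := by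
  induction h with
  | refl => exact Relation.ReflTransGen.refl
  | tail _ h ih => exact Relation.ReflTransGen.head ⟨h.2.1, h.1, h.2.2.symm⟩ ih

theorem Link.conj' {C : Set G} {g : G} (hg : ∀ z ∈ C, g * z * g⁻¹ ∈ C) {a b : G} (h : Link C a b) :
    Link C (g * a * g⁻¹) (g * b * g⁻¹) := by
  induction h with
  | refl => exact Relation.ReflTransGen.refl
  | tail _ h ih => exact ih.tail ⟨hg _ h.1, hg _ h.2.1, (Commute.conj_iff g).2 h.2.2⟩

variable (hF : IsFischer D) {x : G} (hx : x ∈ D) (hc : CentralAt G D x)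
  (h22 : Cfsg.IsOfTypeM22 (Loc G D x) (locSet G D x)) {e : G} (he : e ∈ D) (hxe : ¬ Commute x e)

include hF hx hc h22 he hxe

/-- The neighbours of a common neighbour among the common neighbours are the reflections of dimension six. -/
theorem refl_local {y : G} (hy : y ∈ common D x e) :
    IsRefl (↥(Subgroup.closure (common D x e ∩ perp D y)) ⧸
        Subgroup.center ↥(Subgroup.closure (common D x e ∩ perp D y)))
      (Relations.image (common D x e ∩ perp D y)) 6 1 1 := by
  have hD := hF.toTrans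
  have hsep := fun a ha b hb h => eq_of_commute_iff hF (a := a) (b := b) ha hb h
  have hnc : ∀ a ∈ perp D x, ∃ e ∈ perp D x, ¬ Commute a e := fun a ha => exists_perp_noncommute hD hsep hx ha
  have hS : ∀ z ∈ perp D x, z ∈ D := fun z hz => hz.1
  obtain ⟨g, hg⟩ := hF.trans y hy.1.1 x hx
  have hyx : x ∈ perp D y := ⟨hx, hy.1.2.1.symm, hy.1.2.2.symm⟩
  have hye : e ∈ perp D y := ⟨he, fun e' => hxe (e' ▸ hy.1.2.2), hy.2.symm⟩
  have hx' : g * x * g⁻¹ ∈ perp D x := by
    have := conj_perp hF g y hyx; rwa [hg] at this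
  have he' : g * e * g⁻¹ ∈ perp D x := by
    have := conj_perp hF g y hye; rwa [hg] at this
  have hxe' : ¬ Commute (g * x * g⁻¹) (g * e * g⁻¹) := fun h => hxe ((Commute.conj_iff g).1 h)
  obtain ⟨T, hT⟩ : ∃ T, T = (fun z => g * z * g⁻¹) '' (common D x e ∩ perp D y) := ⟨_, rfl⟩
  have hconj : ∀ u ∈ Subgroup.closure (common D x e ∩ perp D y), ∀ z ∈ common D x e ∩ perp D y,
      u * z * u⁻¹ ∈ common D x e ∩ perp D y := fun u hu z hz => by
    refine ⟨conj_common hF (Subgroup.closure_mono Set.inter_subset_left hu) hz.1, ?_⟩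
    have hle : Subgroup.closure (common D x e ∩ perp D y) ≤ Subgroup.centralizer ({y} : Set G) :=
      (Subgroup.closure_le _).2 fun w hw => Subgroup.mem_centralizer_singleton_iff.2 hw.2.2.2.eq.symm
    have := conj_perp hF u y hz.2
    rwa [Subgroup.mem_centralizer_singleton_iff.1 (hle hu), mul_inv_cancel_right] at this
  have hT' : ∀ z, z ∈ T ↔ z ∈ perp D x ∧ Commute (g * x * g⁻¹) z ∧ Commute (g * e * g⁻¹) z := by
    intro z
    rw [hT]
    constructor
    · rintro ⟨w, hw, rfl⟩
      refine ⟨?_, (Commute.conj_iff g).2 hw.1.1.2.2, (Commute.conj_iff g).2 hw.1.2⟩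
      have := conj_perp hF g y hw.2
      rwa [hg] at this
    · rintro ⟨h1, h2, h3⟩
      have hw : g⁻¹ * z * g ∈ perp D y := by
        rw [← mem_perp_conj hD, hg]; exact h1
      have h2' : Commute x (g⁻¹ * z * g) := by rw [← Commute.conj_iff g]; simpa [mul_assoc] using h2
      have h3' : Commute e (g⁻¹ * z * g) := by rw [← Commute.conj_iff g]; simpa [mul_assoc] using h3
      exact ⟨_, ⟨⟨⟨hw.1, fun e' => hxe (e' ▸ h3'.symm), h2'⟩, h3'⟩, hw⟩, by simp [mul_assoc]⟩
  refine (isRefl_map_iff (T := T) (MulAut.conj g).toMonoidHom _ hconj (MulAut.conj g).injective.injOn hT).2 ?_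
  obtain ⟨S, hSdef⟩ : ∃ S : Set ↥(Subgroup.closure (perp D x)), S = {u : ↥(Subgroup.closure (perp D x)) | (u : G) ∈ T} := ⟨_, rfl⟩
  have hsubT : T ⊆ perp D x := fun z hz => ((hT' z).1 hz).1
  have hTconj : ∀ u ∈ Subgroup.closure T, ∀ z ∈ T, u * z * u⁻¹ ∈ T := by
    have hm : Subgroup.closure T = (Subgroup.closure (common D x e ∩ perp D y)).map (MulAut.conj g).toMonoidHom := by
      rw [MonoidHom.map_closure, hT]; rfl
    intro u hu z hz
    rw [hm] at hu
    obtain ⟨u, hu, rfl⟩ := hu
    rw [hT] at hz ⊢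
    obtain ⟨w, hw, rfl⟩ := hz
    exact ⟨_, hconj u hu w hw, by simp [mul_assoc]⟩
  have hSconj : ∀ u ∈ Subgroup.closure S, ∀ s ∈ S, u * s * u⁻¹ ∈ S := fun u hu s hs => by
    rw [hSdef]
    refine hTconj u ?_ s (by rw [hSdef] at hs; exact hs)
    have hle : (Subgroup.closure S).map (Subgroup.closure (perp D x)).subtype ≤ Subgroup.closure T := by
      rw [MonoidHom.map_closure, Subgroup.closure_le]
      rintro _ ⟨v, hv, rfl⟩
      exact Subgroup.subset_closure (by rw [hSdef] at hv; exact hv)
    exact hle ⟨u, hu, rfl⟩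
  refine (isRefl_map_iff (T := T) (Subgroup.closure (perp D x)).subtype S hSconj
    Subtype.val_injective.injOn ?_).1 ?_
  · ext z
    refine ⟨fun hz => ⟨⟨z, Subgroup.subset_closure (hsubT hz)⟩, by rw [hSdef]; exact hz, rfl⟩, ?_⟩
    rintro ⟨v, hv, rfl⟩
    rw [hSdef] at hv
    exact hv
  refine (isRefl_map_iff (T := common (locSet G D x) (bar hx') (bar he'))
    (QuotientGroup.mk' _) S hSconj ?_ ?_).2 ?_
  · intro u hu v hv h
    rw [hSdef] at hu hv
    exact Subtype.ext (bar_inj hD hS hnc (hsubT hu) (hsubT hv) h)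
  · ext q
    constructor
    · rintro ⟨⟨hq, hne, hc1⟩, hc2⟩
      obtain ⟨z, hz, rfl⟩ := exists_bar hq
      refine ⟨⟨z, Subgroup.subset_closure hz⟩, ?_, rfl⟩
      rw [hSdef]
      exact (hT' z).2 ⟨hz, (bar_commute hD hS hx' hz).1 hc1, (bar_commute hD hS he' hz).1 hc2⟩
    · rintro ⟨u, hu, rfl⟩
      rw [hSdef] at hu
      obtain ⟨h1, h2, h3⟩ := (hT' u).1 hu
      refine ⟨⟨bar_mem h1, fun e' => hxe' ?_, (bar_commute hD hS hx' h1).2 h2⟩, (bar_commute hD hS he' h1).2 h3⟩
      have := bar_inj hD hS hnc h1 hx' e'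
      rw [← this]
      exact h3.symm
  · exact common_refl (isFischer_loc hF hx hc) h22 (bar_mem hx') (bar_mem he')
      fun h => hxe' ((bar_commute hD hS hx' he').1 h)

/-- Around a common neighbour: one chain, a commuting pair, no coincidences and trivial cores. -/
theorem local_class {y : G} (hy : y ∈ common D x e) :
    (∀ a ∈ common D x e ∩ perp D y, ∀ b ∈ common D x e ∩ perp D y, Chain (common D x e) a b) ∧
    (∃ a ∈ common D x e ∩ perp D y, ∃ b ∈ common D x e ∩ perp D y, a ≠ b ∧ Commute a b) ∧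
    (∀ a ∈ common D x e ∩ perp D y, ∃ b ∈ common D x e ∩ perp D y, ¬ Commute a b) ∧
    Trans (Relations.image (common D x e ∩ perp D y)) ∧
    Cfsg.pCore 2 (↥(Subgroup.closure (common D x e ∩ perp D y)) ⧸
      Subgroup.center ↥(Subgroup.closure (common D x e ∩ perp D y))) = ⊥ ∧
    Cfsg.pCore 3 (↥(Subgroup.closure (common D x e ∩ perp D y)) ⧸
      Subgroup.center ↥(Subgroup.closure (common D x e ∩ perp D y))) = ⊥ := by
  have hD := hF.toTrans
  have hS : ∀ z ∈ common D x e ∩ perp D y, z ∈ D := fun z hz => hz.2.1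
  obtain ⟨hT, ⟨p, hp, q, hq, hpq, hcpq⟩, h2, h3⟩ := refl_facts (by norm_num) (refl_local hF hx hc h22 he hxe hy)
  have hne : ∃ a ∈ Relations.image (common D x e ∩ perp D y), ∃ b ∈ Relations.image (common D x e ∩ perp D y),
      a ≠ b := ⟨p, hp, q, hq, hpq⟩
  have hnc : ∀ a ∈ common D x e ∩ perp D y, ∃ b ∈ common D x e ∩ perp D y, ¬ Commute a b := fun a ha => by
    obtain ⟨r, hr, har⟩ := exists_noncommuting hT hne (bar_mem ha)
    obtain ⟨b, hb, rfl⟩ := exists_bar hr
    exact ⟨b, hb, fun h => har ((bar_commute hD hS ha hb).2 h)⟩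
  refine ⟨fun a ha b hb => ?_, ?_, hnc, hT, h2, h3⟩
  · refine closed_eq hT (a := bar ha)
      (p := fun r => ∀ w (hw : w ∈ common D x e ∩ perp D y), bar hw = r → Chain (common D x e) a w)
      (bar_mem ha) (fun w hw h => ?_) (fun r hr s hs hpr hn w hw hws => ?_) _ (bar_mem hb) b hb rfl
    · rw [bar_inj hD hS hnc hw ha h]
      exact Relation.ReflTransGen.refl
    · obtain ⟨v, hv, rfl⟩ := exists_bar hr
      subst hws
      exact (hpr v hv rfl).tail ⟨hv.1, hw.1, fun h => hn ((bar_commute hD hS hv hw).2 h)⟩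
  · obtain ⟨a, ha, rfl⟩ := exists_bar hp
    obtain ⟨b, hb, rfl⟩ := exists_bar hq
    exact ⟨a, ha, b, hb, fun h => hpq (by subst h; rfl), (bar_commute hD hS ha hb).1 hcpq⟩

/-- All common neighbours lie on one chain. -/
theorem chain {a b : G} (ha : a ∈ common D x e) (hb : b ∈ common D x e) : Chain (common D x e) a b := by
  have hstep : ∀ p ∈ common D x e, ∀ q ∈ common D x e, ¬ Chain (common D x e) p q →
      ∀ z ∈ common D x e ∩ perp D p, ¬ Chain (common D x e) p z := by
    intro p hp q hq hpq z hz hpz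
    have hcom : Commute p q := by
      by_contra h
      exact hpq (Relation.ReflTransGen.single ⟨hp, hq, h⟩)
    have hq' : q ∈ common D x e ∩ perp D p :=
      ⟨hq, hq.1.1, fun e' => hpq (by rw [e']; exact Relation.ReflTransGen.refl), hcom⟩
    exact hpq (hpz.trans ((local_class hF hx hc h22 he hxe hp).1 z hz q hq'))
  by_contra hab
  obtain ⟨u, hu, v, hv, huv, hcuv⟩ := (local_class hF hx hc h22 he hxe ha).2.1
  have h1 := hstep a ha b hb hab u hu
  refine hstep u hu.1 a ha (fun h => h1 h.symm') v ⟨hv.1, hv.1.1.1, huv.symm, hcuv⟩ ?_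
  exact (local_class hF hx hc h22 he hxe ha).1 u hu v hv

/-- All common neighbours are joined by commuting ones. -/
theorem linked {a b : G} (ha : a ∈ common D x e) (hb : b ∈ common D x e) : Link (common D x e) a b := by
  have hD := hF.toTrans
  by_contra hab
  obtain ⟨K, hK⟩ : ∃ K : G → Set G, ∀ w, K w = {z | z ∈ common D x e ∧ Link (common D x e) w z} :=
    ⟨fun w => {z | z ∈ common D x e ∧ Link (common D x e) w z}, fun _ => rfl⟩
  have hbig : ∀ w ∈ common D x e, 127 ≤ (K w).ncard := fun w hw => by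
    have hsub : insert w (common D x e ∩ perp D w) ⊆ K w := by
      rw [hK]
      rintro z (rfl | hz)
      · exact ⟨hw, Relation.ReflTransGen.refl⟩
      · exact ⟨hz.1, Relation.ReflTransGen.single ⟨hw, hz.1, hz.2.2.2⟩⟩
    have := Set.ncard_le_ncard hsub (Set.toFinite _)
    rwa [Set.ncard_insert_of_notMem (fun h => h.2.2.1 rfl) (Set.toFinite _),
      common_adj hF hx hc h22 hxe he hw] at this
  have hdis : ∀ v w, ¬ Link (common D x e) v w → Disjoint (K v) (K w) := fun v w h => by
    rw [hK, hK, Set.disjoint_left]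
    exact fun z hz hz' => h (hz.2.trans hz'.2.symm')
  have hC : (common D x e).ncard = 351 := by
    rw [← Nat.card_coe_set_eq, common_card hF hx hc h22 he hxe]
  have hsubC : ∀ w, K w ⊆ common D x e := fun w => by rw [hK]; exact fun z hz => hz.1
  have hcover : common D x e = K a ∪ K b := by
    refine Set.Subset.antisymm (fun z hz => ?_) (Set.union_subset (hsubC a) (hsubC b))
    by_contra hz'
    simp only [hK, Set.mem_union, Set.mem_ofPred, hz, true_and, not_or] at hz'
    have h := Set.ncard_le_ncard (Set.union_subset (Set.union_subset (hsubC a) (hsubC b)) (hsubC z)) (Set.toFinite _)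
    rw [Set.ncard_union_eq (Set.disjoint_union_left.2 ⟨hdis a z hz'.1, hdis b z hz'.2⟩) (Set.toFinite _)
      (Set.toFinite _), Set.ncard_union_eq (hdis a b hab) (Set.toFinite _) (Set.toFinite _), hC] at h
    have := hbig a ha
    have := hbig b hb
    have := hbig z hz
    omega
  have hsame : ∀ v ∈ common D x e, ∀ w ∈ common D x e, (K v).ncard ≤ (K w).ncard := fun v hv w hw => by
    obtain ⟨g, hg, rfl⟩ := (chain hF hx hc h22 he hxe hv hw).exists_conj hD fun z hz => hz.1.1
    rw [← Set.ncard_image_of_injective (K v) (conj_fun_inj hF g)]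
    refine Set.ncard_le_ncard ?_ (Set.toFinite _)
    rw [hK, hK]
    rintro _ ⟨z, hz, rfl⟩
    exact ⟨conj_common hF hg hz.1, hz.2.conj' fun w hw => conj_common hF hg hw⟩
  have h := congrArg Set.ncard hcover
  rw [hC, Set.ncard_union_eq (hdis a b hab) (Set.toFinite _) (Set.toFinite _)] at h
  have := hsame a ha b hb
  have := hsame b hb a ha
  omega

end Cfsg.Lib.Fischer.Thm.M23
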