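import Cfsg.Agent.Lib.Fischer.Thm.M23.Spectrum
import Cfsg.Agent.Lib.Fischer.Thm.Local
import Cfsg.Agent.Lib.Fischer.Thm.Counts
import Cfsg.Agent.Lib.Fischer.Relations.Twenty.Order
import Cfsg.Agent.S5361

/-!
# The parameters above neighbourhoods of type M(22)

Valency 3510, 693 common neighbours of a commuting pair; the star bound leaves at most 679 for the other pairs
and a square discriminant leaves 351.
-/

set_option autoImplicit false
set_option linter.unusedSectionVars false
set_option linter.style.haveILetI false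

namespace Cfsg.Lib.Fischer.Thm.M23

open Cfsg Cfsg.Lib.Fischer Cfsg.Lib.Fischer.Relations

variable {G : Type*} [Group G] [Finite G] {D : Set G}

theorem square_scan : ∀ μ < 680, μ ∣ 9884160 →
    Nat.sqrt ((693 - μ) ^ 2 + 4 * (3510 - μ)) * Nat.sqrt ((693 - μ) ^ 2 + 4 * (3510 - μ)) =
      (693 - μ) ^ 2 + 4 * (3510 - μ) → μ = 351 := by
  decide +kernel

/-- A Fischer class is primitive. -/
theorem primitive_of_fischer (hF : IsFischer D) : Cfsg.IsPrimitiveUnderConj D := by
  classical
  have hD := hF.toTrans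
  obtain ⟨x, hx⟩ := hD.ne
  obtain ⟨b, hb, hbx, hxb⟩ := exists_perp hF hx
  have hcls : Cfsg.IsThreeTranspositionClass D :=
    ⟨hD.set, ⟨x, hx, Set.ext fun z => ⟨fun hz => isConj_iff.2 (hD.trans x hx z hz),
      fun hz => by obtain ⟨g, rfl⟩ := isConj_iff.1 hz; exact hD.conj g x hx⟩⟩, hD.gen⟩
  have hcore : ∀ p, Nat.Prime p → Cfsg.pCore p G = ⊥ := fun p hp => by
    haveI : Fact p.Prime := ⟨hp⟩
    haveI : Group.IsNilpotent ↥(Cfsg.pCore p G) := (Lib.Core.pCore_isPGroup p G).isNilpotent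
    exact hF.sol _ inferInstance inferInstance
  refine ((Cfsg.Agent.S5361.result hcls ?_ ⟨x, hx, b, hb, hbx.symm, hxb⟩).2).2
    ⟨hcore 2 Nat.prime_two, hcore 3 Nat.prime_three, ?_⟩
  · rw [eq_bot_iff]
    intro z hz
    exact Subgroup.mem_bot.2 (Polar.center_trivial hF fun d _ => (Subgroup.mem_center_iff.1 hz d).symm)
  · haveI : Nonempty ↥D := ⟨⟨x, hx⟩⟩
    refine ⟨fun u v => ?_⟩
    have hadj : ∀ p q : ↥D, Commute (p : G) q → (Cfsg.commutingGraph D).Reachable p q := fun p q h => by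
      by_cases e : p = q
      · rw [e]
      · refine SimpleGraph.Adj.reachable ?_
        rw [Cfsg.commutingGraph, SimpleGraph.fromRel_adj]
        exact ⟨e, Or.inl h⟩
    by_cases h : Commute (u : G) v
    · exact hadj u v h
    · obtain ⟨w, hw⟩ := common_nonempty hF u.2 v.2 h
      exact (hadj u ⟨w, hw.1.1⟩ hw.1.2.2).trans (hadj _ v hw.2.symm)

variable (hF : IsFischer D) {x : G} (hx : x ∈ D) (hc : CentralAt G D x)
  (h22 : Cfsg.IsOfTypeM22 (Loc G D x) (locSet G D x))

include hF hx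

/-- A subset of the neighbourhood as a subset of its image. -/
theorem card_bar (p : G → Prop) (q : Loc G D x → Prop) (h : ∀ u (hu : u ∈ perp D x), p u ↔ q (bar hu)) :
    Nat.card {u | u ∈ perp D x ∧ p u} = Nat.card {y | y ∈ locSet G D x ∧ q y} := by
  have hD := hF.toTrans
  have hsep := fun a ha b hb h => eq_of_commute_iff hF (a := a) (b := b) ha hb h
  refine Nat.card_eq_of_bijective (fun u => ⟨bar u.2.1, bar_mem _, (h _ u.2.1).1 u.2.2⟩) ⟨fun u v e => ?_, fun y => ?_⟩
  · exact Subtype.ext (bar_inj hD (fun _ hu => hu.1) (fun a ha => exists_perp_noncommute hD hsep hx ha)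
      u.2.1 v.2.1 (congrArg Subtype.val e))
  · obtain ⟨u, hu, e⟩ := exists_bar y.2.1
    exact ⟨⟨u, hu, (h u hu).2 (by rw [e]; exact y.2.2)⟩, Subtype.ext e⟩

include hc h22

/-- The counts inside the neighbourhood, read off from the type. -/
theorem local_counts :
    Nat.card (perp D x) = 3510 ∧
    (∀ t ∈ perp D x, Nat.card {u | u ∈ perp D x ∧ Commute t u} = 694) ∧
    (∀ s ∈ perp D x, ∀ t ∈ perp D x, t ≠ s → Commute s t →
      Nat.card {u | u ∈ perp D x ∧ (Commute s u ∧ Commute t u)} = 182) ∧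
    ∀ s ∈ perp D x, ∀ t ∈ perp D x, ¬ Commute s t →
      Nat.card {u | u ∈ perp D x ∧ (Commute s u ∧ Commute t u)} = 126 := by
  have hD := hF.toTrans
  have hFE := isFischer_loc hF hx hc
  have hTE := hFE.toTrans
  have hPE := primitive_of_fischer hFE
  have hsep := fun a ha b hb h => eq_of_commute_iff hF (a := a) (b := b) ha hb h
  have hnc : ∀ a ∈ perp D x, ∃ e ∈ perp D x, ¬ Commute a e := fun a ha => exists_perp_noncommute hD hsep hx ha
  have bc : ∀ {s t : G} (hs : s ∈ perp D x) (ht : t ∈ perp D x), Commute s t ↔ Commute (bar hs) (bar ht) :=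
    fun hs ht => (bar_commute hD (fun _ h => h.1) hs ht).symm
  obtain ⟨F, _, _, hF', d₀, ⟨C⟩⟩ := m22_coord hTE hPE h22
  obtain ⟨hord, -, -⟩ := m22_order hTE hPE h22
  have hP : Params (locSet G D x) 693 181 :=
    params_of_one hFE C.mem C.card_perp fun _ ht => C.card_common_perp ht
  obtain ⟨c₀, hc₀, hdc⟩ := exists_not_commute hFE C.mem
  have hfar : Nat.card (Relations.far (locSet G D x) d₀) = 2816 := by
    have := card_class C.mem hP
    rw [hord] at this
    omega
  refine ⟨?_, fun t ht => ?_, fun s hs t ht hne hst => ?_, fun s hs t ht hst => ?_⟩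
  · have h := card_bar hF hx (fun _ => True) (fun _ => True) (fun _ _ => Iff.rfl)
    simp only [and_true, Set.setOf_mem_eq] at h
    rw [h, Nat.card_coe_set_eq, hord]
  · rw [card_bar hF hx (fun u => Commute t u) (fun y => Commute (bar ht) y) fun u hu => bc ht hu]
    have hset : {y | y ∈ locSet G D x ∧ Commute (bar ht) y} =
        insert (bar ht) (perp (locSet G D x) (bar ht)) := by
      ext y
      simp only [Set.mem_setOf_eq, Set.mem_insert_iff, mem_perp]
      refine ⟨fun h => (em (y = bar ht)).imp id fun e => ⟨h.1, e, h.2⟩, ?_⟩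
      rintro (rfl | h)
      exacts [⟨bar_mem ht, Commute.refl _⟩, ⟨h.1, h.2.2⟩]
    rw [hset, Nat.card_coe_set_eq, Set.ncard_insert_of_notMem (fun h => h.2.1 rfl), ← Nat.card_coe_set_eq,
      hP.val _ (bar_mem ht)]
  · rw [card_bar hF hx (fun u => Commute s u ∧ Commute t u) (fun y => Commute (bar hs) y ∧ Commute (bar ht) y)
      fun u hu => and_congr (bc hs hu) (bc ht hu), Nat.card_coe_set_eq,
      card_both_commute hP (bar_mem hs)
        ⟨bar_mem ht, fun e => hne (bar_inj hD (fun _ hu => hu.1) hnc ht hs e), (bc hs ht).1 hst⟩]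
  · have hst' : ¬ Commute (bar hs) (bar ht) := fun h => hst ((bc hs ht).2 h)
    rw [card_bar hF hx (fun u => Commute s u ∧ Commute t u) (fun y => Commute (bar hs) y ∧ Commute (bar ht) y)
      fun u hu => and_congr (bc hs hu) (bc ht hu), card_both_noncommute hst',
      common_unique hFE hP (bar_mem hs) (bar_mem ht) hst' C.mem hc₀ hdc]
    have h := far_mul_common hFE hP C.mem hc₀ hdc
    rw [hfar] at h
    omega

theorem params : Params D 3510 694 :=
  params_of_one hF hx (local_counts hF hx hc h22).1 (local_counts hF hx hc h22).2.1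

/-- At most 679 common neighbours of a non-commuting pair. -/
theorem common_le {e : G} (he : e ∈ D) (hxe : ¬ Commute x e) : Nat.card (common D x e) ≤ 679 := by
  classical
  have hP := params hF hx hc h22
  obtain ⟨h0, -, h2, h2'⟩ := local_counts hF hx hc h22
  have hD := hF.toTrans
  obtain ⟨b, hbD, hbx, hxb⟩ := exists_perp hF hx
  have hb : b ∈ perp D x := ⟨hbD, hbx, hxb⟩
  obtain ⟨S, hS⟩ : ∃ S : Finset G, S = {u | u ∈ perp D x ∧ Commute b u}.toFinite.toFinset := ⟨_, rfl⟩
  obtain ⟨Ff, hFf⟩ : ∃ Ff : Finset G, Ff = (Relations.far D x).toFinite.toFinset := ⟨_, rfl⟩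
  have hmemS : ∀ u, u ∈ S ↔ u ∈ perp D x ∧ Commute b u := fun u => by simp [hS]
  have hFmem : ∀ u, u ∈ Ff ↔ u ∈ Relations.far D x := fun u => by simp [hFf]
  have hμ := far_mul_common hF hP hx he hxe
  have hsplit : ∀ s t : G, s ∈ perp D x → t ∈ perp D x → {z | z ∈ D ∧ Commute s z ∧ Commute t z}.ncard =
      1 + Nat.card {u | u ∈ perp D x ∧ (Commute s u ∧ Commute t u)} +
        Nat.card {z | z ∈ Ff ∧ Commute s z ∧ Commute t z} := fun s t hs ht => by
    have hset : {z | z ∈ D ∧ Commute s z ∧ Commute t z} ∩ perp D x =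
        {u | u ∈ perp D x ∧ (Commute s u ∧ Commute t u)} := by
      ext z
      exact ⟨fun h => ⟨h.2, h.1.2⟩, fun h => ⟨⟨h.1.1, h.2⟩, h.1⟩⟩
    have hset' : {z | z ∈ D ∧ Commute s z ∧ Commute t z} ∩ Relations.far D x =
        {z | z ∈ Ff ∧ Commute s z ∧ Commute t z} := by
      ext z
      simp only [Set.mem_inter_iff, Set.mem_setOf_eq, hFmem]
      exact ⟨fun h => ⟨h.2, h.1.2⟩, fun h => ⟨⟨h.1.1, h.2⟩, h.1⟩⟩
    have h := card_split hx {z | z ∈ D ∧ Commute s z ∧ Commute t z} (fun z hz => hz.1)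
      ⟨hx, hs.2.2.symm, ht.2.2.symm⟩
    rwa [hset, hset', ← Nat.card_coe_set_eq {u | u ∈ perp D x ∧ _},
      ← Nat.card_coe_set_eq {z | z ∈ Ff ∧ _}] at h
  have key := star_bound S Ff (a₀ := b) ((hmemS b).2 ⟨hb, Commute.refl _⟩)
    (n := 693) (l := 181) (f := 2816) (g := 512) (ν := Nat.card (common D x e) - 127)
    (by rw [hS, ← Set.ncard_eq_toFinset_card _, ← Nat.card_coe_set_eq, hP.adj x hx b hb])
    (fun s hs => by
      have hs' := ((hmemS s).1 hs).1
      have := card_far_nbr hP hx hs'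
      simp only [hFmem]
      omega)
    (fun s hs t ht hne hst => by
      have hs' := ((hmemS s).1 hs).1
      have ht' := ((hmemS t).1 ht).1
      have h := hsplit s t hs' ht'
      rw [h2 s hs' t ht' hne hst, card_both_commute hP hs'.1 ⟨ht'.1, hne, hst⟩] at h
      omega)
    (fun s hs t ht _ hst => by
      have hs' := ((hmemS s).1 hs).1
      have ht' := ((hmemS t).1 ht).1
      have h := hsplit s t hs' ht'
      rw [h2' s hs' t ht' hst, card_both_noncommute hst, ← Nat.card_coe_set_eq,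
        common_unique hF hP hs'.1 ht'.1 hst hx he hxe] at h
      omega)
    (fun t ht => ((hmemS t).1 ht).2)
    (fun s hs hne => by
      obtain ⟨hs', hbs⟩ := (hmemS s).1 hs
      have hset : {u | u ∈ perp D x ∧ (Commute b u ∧ Commute s u)} =
          insert s {t | t ∈ S ∧ t ≠ s ∧ Commute s t} := by
        ext u
        simp only [Set.mem_setOf_eq, Set.mem_insert_iff, hmemS]
        refine ⟨fun h => (em (u = s)).imp id fun e => ⟨⟨h.1, h.2.1⟩, e, h.2.2⟩, ?_⟩
        rintro (rfl | h)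
        exacts [⟨hs', hbs, Commute.refl _⟩, ⟨h.1.1, h.1.2, h.2.2⟩]
      have h := h2 b hb s hs' hne hbs
      rw [hset, Nat.card_coe_set_eq, Set.ncard_insert_of_notMem (fun h => h.2.1 rfl), ← Nat.card_coe_set_eq] at h
      omega)
  rw [hFf, ← Set.ncard_eq_toFinset_card _, ← Nat.card_coe_set_eq] at key
  generalize Nat.card (common D x e) = μ at *
  generalize Nat.card (Relations.far D x) = N at *
  by_contra hlt
  obtain ⟨ν, rfl⟩ : ∃ ν, μ = ν + 127 := ⟨μ - 127, by omega⟩
  rw [Nat.add_sub_cancel] at key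
  have e' : N * ((693 + 1) * 2816 + (693 + 693 * 181) * 512 + 693 * (693 - 181) * ν) =
      66530816 * N + 354816 * (N * ν) := by
    norm_num
    ring
  rw [e'] at key
  rw [Nat.mul_add] at hμ
  norm_num at key hμ
  have hN : 14544 ≤ N := by omega
  have := Nat.mul_le_mul hN (show 553 ≤ ν by omega)
  omega

/-- Non-commuting pairs have 351 common neighbours. -/
theorem common_card {e : G} (he : e ∈ D) (hxe : ¬ Commute x e) : Nat.card (common D x e) = 351 := by
  classical
  haveI : Fintype G := Fintype.ofFinite G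
  have hP := params hF hx hc h22
  have hle := common_le hF hx hc h22 he hxe
  have hμ := far_mul_common hF hP hx he hxe
  obtain ⟨μ, hμd⟩ : ∃ μ, μ = Nat.card (common D x e) := ⟨_, rfl⟩
  rw [← hμd] at hle hμ ⊢
  haveI : Nonempty ↥D := ⟨⟨x, hx⟩⟩
  have hsq := disc_square (Ω := ↥D) (fun p q => (q : G) ∈ perp D p) (fun p h => h.2.1 rfl)
    (fun p q h => ⟨p.2, h.2.1.symm, h.2.2.symm⟩) (k := 3510) (a := 693 - μ) (m := μ) (by omega) (by norm_num)
    (fun p => by
      rw [← hP.val p p.2, ← Nat.card_eq_finsetCard]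
      exact Nat.card_congr ((Equiv.subtypeEquivRight fun r => by simp).trans
        (Equiv.subtypeSubtypeEquivSubtype fun h => h.1)))
    (fun p q hpq => by
      have hset : (Finset.univ.filter fun r : ↥D => (r : G) ∈ perp D p ∧ (r : G) ∈ perp D q).card =
          (inner D p q).ncard := by
        rw [← Nat.card_eq_finsetCard, ← Nat.card_coe_set_eq]
        exact Nat.card_congr ((Equiv.subtypeEquivRight fun r => by simp [inner]).trans
          (Equiv.subtypeSubtypeEquivSubtype (p := fun z => z ∈ D) (q := fun z => z ∈ inner D p q) fun h => h.1.1))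
      rw [hset]
      split_ifs with h
      · have hins : {u | u ∈ perp D p ∧ Commute (q : G) u} = insert (q : G) (inner D p q) := by
          ext u
          simp only [Set.mem_setOf_eq, Set.mem_insert_iff]
          refine ⟨fun hu => (em (u = (q : G))).imp id fun e => ⟨hu.1, hu.1.1, e, hu.2⟩, ?_⟩
          rintro (rfl | hu)
          exacts [⟨h, Commute.refl _⟩, ⟨hu.1, hu.2.2.2⟩]
        have h1 := hP.adj p p.2 q h
        rw [hins, Nat.card_coe_set_eq, Set.ncard_insert_of_notMem (fun hu => hu.2.2.1 rfl)] at h1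
        omega
      · have hn : ¬ Commute (p : G) q := fun hc' => h ⟨q.2, fun e => hpq (Subtype.ext e.symm), hc'⟩
        rw [inner_eq_common hn, ← Nat.card_coe_set_eq, common_unique hF hP p.2 q.2 hn hx he hxe, hμd])
  obtain ⟨r, hr⟩ := hsq
  refine square_scan μ (by omega) ⟨Nat.card (Relations.far D x), ?_⟩ ?_
  · rw [mul_comm, hμ]
  · rw [hr, Nat.sqrt_eq]

/-- A common neighbour commutes with 126 others. -/
theorem common_adj {e : G} (hxe : ¬ Commute x e) (he : e ∈ D) {y : G} (hy : y ∈ common D x e) :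
    (common D x e ∩ perp D y).ncard = 126 := by
  obtain ⟨-, -, -, h2'⟩ := local_counts hF hx hc h22
  obtain ⟨g, hg⟩ := hF.trans y hy.1.1 x hx
  have hyx : x ∈ perp D y := ⟨hx, hy.1.2.1.symm, hy.1.2.2.symm⟩
  have hye : e ∈ perp D y := ⟨he, fun e' => hxe (e' ▸ hy.1.2.2), hy.2.symm⟩
  have hx' : g * x * g⁻¹ ∈ perp D x := by
    have := conj_perp hF g y hyx; rwa [hg] at this
  have he' : g * e * g⁻¹ ∈ perp D x := by
    have := conj_perp hF g y hye; rwa [hg] at this
  rw [← h2' _ hx' _ he' (fun h => hxe ((Commute.conj_iff g).1 h)), ← Nat.card_coe_set_eq]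
  refine Nat.card_congr ((MulAut.conj g).toEquiv.subtypeEquiv fun z => ?_)
  show z ∈ common D x e ∩ perp D y ↔
    g * z * g⁻¹ ∈ perp D x ∧ Commute (g * x * g⁻¹) (g * z * g⁻¹) ∧ Commute (g * e * g⁻¹) (g * z * g⁻¹)
  have hm : g * z * g⁻¹ ∈ perp D x ↔ z ∈ perp D y := by
    rw [← hg, mem_perp_conj hF.toTrans, show g⁻¹ * (g * z * g⁻¹) * g = z by group]
  rw [Commute.conj_iff, Commute.conj_iff, hm]
  exact ⟨fun h => ⟨h.2, h.1.1.2.2, h.1.2⟩,
    fun h => ⟨⟨⟨h.1.1, fun e' => hxe (e' ▸ h.2.2.symm), h.2.1⟩, h.2.2⟩, h.1⟩⟩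

end Cfsg.Lib.Fischer.Thm.M23
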