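import Cfsg.Agent.Lib.Fischer.Thm.M23.Transfer
import Cfsg.Agent.Lib.Fischer.Thm.M23.Params
import Cfsg.Agent.Lib.Fischer.Fi22Type.Class
import Cfsg.Agent.Lib.Fischer.Fi22Type.Main
import Cfsg.Agent.Lib.Fischer.Fi22Recog.Iso

/-!
# In type M(22) the common neighbours of a non-commuting pair are the reflections of a six-dimensional form
-/

set_option autoImplicit false
set_option linter.unusedSectionVars false
set_option maxRecDepth 100000

namespace Cfsg.Lib.Fischer.Thm.M23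

open Cfsg Cfsg.Lib.Fischer Cfsg.Lib.Fischer.Relations Cfsg.Lib.CosetEnum

/-- The group of the common neighbours, with its class. -/
theorem common_refl {L : Type*} [Group L] [Finite L] {E : Set L} (hF : IsFischer E)
    (h22 : Cfsg.IsOfTypeM22 L E) {a b : L} (ha : a ∈ E) (hb : b ∈ E) (hab : ¬ Commute a b) :
    IsRefl (↥(Subgroup.closure (common E a b)) ⧸ Subgroup.center ↥(Subgroup.closure (common E a b)))
      (Relations.image (common E a b)) 6 1 1 := by
  have hT := hF.toTrans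
  obtain ⟨e₀, he₀⟩ := Fi22Recog.exists_equiv ⟨hT.set, hT.conj, hT.gen⟩ (primitive_of_fischer hF) h22
  obtain ⟨A, hZ, hk, hp, hx, hd, -, -, -, -⟩ := Fi22Out.exists_table
  have hfiA : A.d = Fi22Recog.fiA := by rw [hd, hx]; rfl
  rw [← hfiA] at he₀
  have hxD : ∀ g < 9, A.x g ∈ conjugatesOf A.d := fun g hg =>
    (A.isConj_iff_exists _).2 ⟨_, A.delta_pts (hk.symm ▸ hg : g < A.k)⟩
  have hc01 : ¬ Commute (A.x 0) (A.x 1) := fun h => by
    rw [commute_iff_eq, ← A.delta_pts (hk.symm ▸ (by norm_num : 1 < 9) : 1 < A.k),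
      A.commute_gen_iff (hk.symm ▸ (by norm_num : 0 < 9) : 0 < A.k)] at h
    simp only [hZ, hk, hp] at h
    exact absurd h (by decide +kernel)
  have hm : ∀ g < 9, e₀ (A.x g) ∈ E := fun g hg => he₀ ▸ Set.mem_image_of_mem _ (hxD g hg)
  obtain ⟨g, hga, hgb⟩ := exists_move_far hF (hm 0 (by norm_num)) (hm 1 (by norm_num))
    (fun h => hc01 (by simpa using h.map e₀.symm)) ha hb hab
  obtain ⟨f, hf⟩ : ∃ f : Cfsg.Spor.Fi22 ≃* L, ∀ z, f z = g * e₀ z * g⁻¹ :=
    ⟨e₀.trans (MulAut.conj g), fun z => rfl⟩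
  have hfD : f '' conjugatesOf A.d = E := by
    ext y
    constructor
    · rintro ⟨z, hz, rfl⟩
      rw [hf]
      exact hT.conj g _ (he₀ ▸ Set.mem_image_of_mem _ hz)
    · intro hy
      have hy' := hT.conj g⁻¹ y hy
      rw [← he₀] at hy'
      obtain ⟨z, hz, hze⟩ := hy'
      exact ⟨z, hz, by rw [hf, hze]; group⟩
  obtain ⟨S, hS⟩ : ∃ S, S = perp (conjugatesOf A.d) (A.x 0) ∩ perp (conjugatesOf A.d) (A.x 1) := ⟨_, rfl⟩
  have hcommon : common E a b = f '' S := by
    rw [← inner_eq_common hab, inner, hS, Set.image_inter f.injective]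
    show perp E a ∩ perp E b = f '' {y | y ∈ conjugatesOf A.d ∧ y ≠ A.x 0 ∧ Commute (A.x 0) y} ∩
      f '' {y | y ∈ conjugatesOf A.d ∧ y ≠ A.x 1 ∧ Commute (A.x 1) y}
    rw [FromCent.image_perp f, FromCent.image_perp f, hfD, hf, hf, hga, hgb]
    rfl
  have hconj : ∀ u ∈ Subgroup.closure S, ∀ s ∈ S, u * s * u⁻¹ ∈ S := by
    intro u hu s hs
    have hfix : ∀ i, (∀ z ∈ S, z ∈ perp (conjugatesOf A.d) i) → u * i * u⁻¹ = i := fun i hi => by
      have hle : Subgroup.closure S ≤ Subgroup.centralizer ({i} : Set Cfsg.Spor.Fi22) :=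
        (Subgroup.closure_le _).2 fun z hz => Subgroup.mem_centralizer_singleton_iff.2 (hi z hz).2.2.eq.symm
      rw [Subgroup.mem_centralizer_singleton_iff.1 (hle hu), mul_inv_cancel_right]
    have key : ∀ i, (∀ z ∈ S, z ∈ perp (conjugatesOf A.d) i) →
        u * s * u⁻¹ ∈ perp (conjugatesOf A.d) i := fun i hi => by
      obtain ⟨h1, h2, h3⟩ := hi s hs
      refine ⟨h1.trans (isConj_iff.2 ⟨u, rfl⟩), fun h => h2 ?_, ?_⟩
      · exact mul_left_cancel (mul_right_cancel (h.trans (hfix i hi).symm))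
      · have := (Commute.conj_iff u).2 h3
        rwa [hfix i hi] at this
    rw [hS] at key ⊢
    exact ⟨key _ fun z hz => hz.1, key _ fun z hz => hz.2⟩
  refine (isRefl_map_iff (T := common E a b) f.toMonoidHom S hconj f.injective.injOn hcommon).1 ?_
  obtain ⟨e, he⟩ := Fi22Type.common_class A hZ hk hp hS
  exact ⟨Fi22Type.formPath, Fi22Type.formPath_nondegenerate, Fi22Type.formPath_det, one_ne_zero, e, he⟩

end Cfsg.Lib.Fischer.Thm.M23
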