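import Mathlib

/-!
# The discriminant of a graph with constant parameters is a square

If the eigenvalues were irrational, the trace of the adjacency matrix would fix their multiplicities to be equal.
-/

set_option autoImplicit false

namespace Cfsg.Lib.Fischer.Thm.M23

open Matrix

variable {Ω : Type*} [Fintype Ω] [DecidableEq Ω]

/-- The trace of an idempotent real matrix is a natural number. -/
theorem exists_nat_trace (E : Matrix Ω Ω ℝ) (h : E * E = E) : ∃ n : ℕ, E.trace = n := by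
  have hid : IsIdempotentElem (Matrix.toLin' E) := by
    rw [IsIdempotentElem, Module.End.mul_eq_comp, ← Matrix.toLin'_mul, h]
  exact ⟨_, (Matrix.trace_toLin'_eq E).symm.trans (LinearMap.IsIdempotentElem.isProj_range _ hid).trace⟩

/-- Constant valency `k`, `a + μ` common neighbours of adjacent and `μ` of other pairs: `a² + 4 (k - μ)` is a
square as soon as `a (v - 1) + 2 k` is not zero. -/
theorem disc_square (adj : Ω → Ω → Prop) [DecidableRel adj] (hirr : ∀ p, ¬ adj p p)
    (hsymm : ∀ p q, adj p q → adj q p) {k a m : ℕ} (hm : m ≤ k) (hk : 0 < k) [Nonempty Ω]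
    (hdeg : ∀ p, (Finset.univ.filter (adj p)).card = k)
    (hcom : ∀ p q, p ≠ q →
      (Finset.univ.filter fun r => adj p r ∧ adj q r).card = if adj p q then a + m else m) :
    IsSquare (a ^ 2 + 4 * (k - m)) := by
  classical
  obtain ⟨d, hd⟩ : ∃ d, d = a ^ 2 + 4 * (k - m) := ⟨_, rfl⟩
  rw [← hd]
  by_contra hsq
  have hd0 : 0 < d := Nat.pos_of_ne_zero fun e => hsq (e ▸ ⟨0, rfl⟩)
  set v := Fintype.card Ω with hv
  have hv0 : 0 < v := Fintype.card_pos
  obtain ⟨A, hA⟩ : ∃ A : Matrix Ω Ω ℝ, A = Matrix.of fun p q => if adj p q then 1 else 0 := ⟨_, rfl⟩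
  obtain ⟨J, hJ⟩ : ∃ J : Matrix Ω Ω ℝ, J = Matrix.of fun _ _ => 1 := ⟨_, rfl⟩
  have hA2 : A * A = ((k : ℝ) - m) • 1 + (a : ℝ) • A + (m : ℝ) • J := by
    ext p q
    have hpq : (A * A) p q = ((Finset.univ.filter fun r => adj p r ∧ adj q r).card : ℝ) := by
      rw [Matrix.mul_apply, Finset.card_filter]
      push_cast
      refine Finset.sum_congr rfl fun r _ => ?_
      by_cases h1 : adj p r <;> by_cases h2 : adj q r
      · simp [hA, h1, h2, hsymm q r h2]
      · simp [hA, h1, h2, show ¬ adj r q from fun h => h2 (hsymm r q h)]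
      · simp [hA, h1, h2]
      · simp [hA, h1, h2]
    rw [hpq]
    by_cases e : p = q
    · subst e
      simp only [and_self, hdeg]
      simp [hA, hJ, hirr]
    · rw [hcom p q e]
      by_cases h : adj p q <;> simp [hA, hJ, h, e]
  have hrow : ∀ p, (∑ q, if adj p q then (1 : ℝ) else 0) = k := fun p => by
    rw [Finset.sum_boole, hdeg]
  have hAJ : A * J = (k : ℝ) • J := by
    ext p q
    simp [Matrix.mul_apply, hA, hJ, hrow p, -Finset.sum_boole]
  have hJA : J * A = (k : ℝ) • J := by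
    ext p q
    simp only [Matrix.mul_apply, hA, hJ, Matrix.of_apply, one_mul, Matrix.smul_apply, smul_eq_mul, mul_one]
    rw [← hrow q]
    exact Finset.sum_congr rfl fun r _ => by
      by_cases h : adj r q
      · simp [h, hsymm r q h]
      · simp [h, show ¬ adj q r from fun h' => h (hsymm q r h')]
  have hJJ : J * J = (v : ℝ) • J := by
    ext p q
    simp [Matrix.mul_apply, hJ, hv]
  have hrel : (k : ℝ) * k = (k - m) + a * k + m * v := by
    obtain ⟨p⟩ := (inferInstance : Nonempty Ω)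
    have h := congrArg (fun X : Matrix Ω Ω ℝ => (X * J) p p) hA2
    simp only [mul_assoc, hAJ, Matrix.mul_smul, smul_smul, add_mul, Matrix.smul_mul, one_mul, hJJ] at h
    simpa [hJ] using h
  have hdR : (d : ℝ) = (a : ℝ) ^ 2 + 4 * (k - m) := by rw [hd]; push_cast [Nat.cast_sub hm]; ring
  have hvR : (v : ℝ) ≠ 0 := by exact_mod_cast hv0.ne'
  obtain ⟨c, hc⟩ : ∃ c : ℝ, c = (2 * k - a) / v := ⟨_, rfl⟩
  have hcv : c * v = 2 * k - a := by rw [hc]; field_simp
  obtain ⟨N, hN⟩ : ∃ N : Matrix Ω Ω ℝ, N = (2 : ℝ) • A - (a : ℝ) • 1 - c • J := ⟨_, rfl⟩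
  obtain ⟨P, hP⟩ : ∃ P : Matrix Ω Ω ℝ, P = 1 - (v : ℝ)⁻¹ • J := ⟨_, rfl⟩
  have hNJ : N * J = 0 := by
    rw [hN]
    simp only [sub_mul, Matrix.smul_mul, hAJ, one_mul, hJJ]
    match_scalars
    linear_combination -hcv
  have hJN : J * N = 0 := by
    rw [hN]
    simp only [mul_sub, Matrix.mul_smul, hJA, mul_one, hJJ]
    match_scalars
    linear_combination -hcv
  have hNN : N * N = (d : ℝ) • P := by
    rw [hN, hP]
    simp only [sub_mul, mul_sub, Matrix.smul_mul, Matrix.mul_smul, hA2, hAJ, hJA, hJJ, one_mul, mul_one, smul_sub]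
    match_scalars
    · linear_combination -hdR
    · ring
    · field_simp
      linear_combination (c * v - (2 * k - a)) * hcv - 4 * hrel + hdR
  obtain ⟨s, hs⟩ : ∃ s : ℝ, s = Real.sqrt d := ⟨_, rfl⟩
  have hss : s * s = d := by rw [hs]; exact Real.mul_self_sqrt (Nat.cast_nonneg _)
  have hs0 : s ≠ 0 := fun e => by rw [e, mul_zero] at hss; exact hd0.ne (by exact_mod_cast hss)
  have hPP : P * P = P := by
    rw [hP]
    simp only [sub_mul, mul_sub, Matrix.smul_mul, Matrix.mul_smul, hJJ, one_mul, mul_one]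
    match_scalars
    · rfl
    · field_simp; ring
  have hPN : P * N = N := by rw [hP, sub_mul, one_mul, Matrix.smul_mul, hJN, smul_zero, sub_zero]
  have hNP : N * P = N := by rw [hP, mul_sub, mul_one, Matrix.mul_smul, hNJ, smul_zero, sub_zero]
  obtain ⟨n, hn⟩ := exists_nat_trace ((1 / 2 : ℝ) • (P + s⁻¹ • N)) (by
    simp only [Matrix.smul_mul, Matrix.mul_smul, add_mul, mul_add, hPP, hPN, hNP, hNN]
    match_scalars
    · have : s⁻¹ * s⁻¹ * (d : ℝ) = 1 := by rw [← hss]; field_simp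
      linear_combination (1 / 4 : ℝ) * this
    · ring)
  have htA : A.trace = 0 := by simp [Matrix.trace, hA, hirr]
  have htJ : J.trace = (v : ℝ) := by simp [Matrix.trace, hJ, hv]
  have htP : P.trace = (v : ℝ) - 1 := by
    rw [hP, Matrix.trace_sub, Matrix.trace_smul, htJ, Matrix.trace_one, ← hv, smul_eq_mul,
      inv_mul_cancel₀ hvR]
  have htN : N.trace = -((a * (v - 1) + 2 * k : ℕ) : ℝ) := by
    rw [hN, Matrix.trace_sub, Matrix.trace_sub, Matrix.trace_smul, Matrix.trace_smul, Matrix.trace_smul, htA, htJ,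
      Matrix.trace_one, ← hv]
    simp only [smul_eq_mul]
    push_cast [Nat.cast_sub (show 1 ≤ v from hv0)]
    linear_combination -hcv
  rw [Matrix.trace_smul, Matrix.trace_add, Matrix.trace_smul, htP, htN] at hn
  simp only [smul_eq_mul] at hn
  obtain ⟨T, hT⟩ : ∃ T, T = a * (v - 1) + 2 * k := ⟨_, rfl⟩
  rw [← hT] at hn
  obtain ⟨z, hz⟩ : ∃ z : ℤ, z = (v : ℤ) - 1 - 2 * n := ⟨_, rfl⟩
  have hzT : (z : ℝ) * s = T := by
    rw [hz]
    push_cast
    field_simp at hn
    linear_combination hn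
  have hsq' : d * z.natAbs ^ 2 = T ^ 2 := by
    have : (d : ℝ) * (z : ℝ) ^ 2 = (T : ℝ) ^ 2 := by rw [← hzT, ← hss]; ring
    have h2 : (d : ℤ) * z ^ 2 = (T : ℤ) ^ 2 := by exact_mod_cast this
    rw [← Int.natAbs_sq z] at h2
    exact_mod_cast h2
  have hz0 : 0 < z.natAbs := Nat.pos_of_ne_zero fun e => by
    rw [e] at hsq'
    have : 0 < T := by omega
    have := Nat.pow_pos (n := 2) this
    omega
  obtain ⟨j, hj⟩ := (Nat.pow_dvd_pow_iff two_ne_zero).1 (Dvd.intro_left d hsq')
  refine hsq ⟨j, ?_⟩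
  rw [hj, mul_pow, mul_comm (z.natAbs ^ 2)] at hsq'
  rw [← sq]
  exact Nat.eq_of_mul_eq_mul_right (Nat.pow_pos hz0) hsq'

end Cfsg.Lib.Fischer.Thm.M23
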