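import Cfsg.Agent.Lib.Fischer.Thm.Local
import Cfsg.Agent.Lib.Fischer.FromCent.Main
import Cfsg.Agent.Lib.Linear.OrthReflThreeStructure

/-!
# Moving a generated class along a homomorphism, and the facts of a class of reflections
-/

set_option autoImplicit false
set_option linter.unusedSectionVars false

namespace Cfsg.Lib.Fischer.Thm.M23

open Cfsg Cfsg.Lib.Fischer Cfsg.Lib.Fischer.Relations

variable {A B : Type*} [Group A] [Group B]

/-- The class of a set closed under its group, modulo the centre, only depends on it up to an injection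
extending to a homomorphism. -/
theorem quot_map (f : A →* B) (S : Set A) (hconj : ∀ u ∈ Subgroup.closure S, ∀ s ∈ S, u * s * u⁻¹ ∈ S)
    (hinj : Set.InjOn f S) :
    ∃ e : ↥(Subgroup.closure S) ⧸ Subgroup.center ↥(Subgroup.closure S) ≃*
        ↥(Subgroup.closure (f '' S)) ⧸ Subgroup.center ↥(Subgroup.closure (f '' S)),
      e '' Relations.image S = Relations.image (f '' S) := by
  have hmap : (Subgroup.closure S).map f = Subgroup.closure (f '' S) := MonoidHom.map_closure _ _
  let φ : ↥(Subgroup.closure S) →* ↥(Subgroup.closure (f '' S)) :=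
    (f.comp (Subgroup.closure S).subtype).codRestrict _ fun u => hmap ▸ ⟨u, u.2, rfl⟩
  have hφ : Function.Surjective φ := by
    rintro ⟨b, hb⟩
    rw [← hmap] at hb
    obtain ⟨a, ha, rfl⟩ := hb
    exact ⟨⟨a, ha⟩, rfl⟩
  let π : ↥(Subgroup.closure S) →* ↥(Subgroup.closure (f '' S)) ⧸ Subgroup.center ↥(Subgroup.closure (f '' S)) :=
    (QuotientGroup.mk' _).comp φ
  have hπ : Function.Surjective π := (QuotientGroup.mk'_surjective _).comp hφ
  have hker : π.ker = Subgroup.center ↥(Subgroup.closure S) := by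
    ext u
    rw [MonoidHom.mem_ker]
    refine (QuotientGroup.eq_one_iff _).trans ?_
    rw [Subgroup.mem_center_iff, Subgroup.mem_center_iff]
    constructor
    · intro h
      have hle : Subgroup.closure S ≤ Subgroup.centralizer {(u : A)} := by
        rw [Subgroup.closure_le]
        intro s hs
        have e : (u : A) * s * (u : A)⁻¹ = s := by
          refine hinj (hconj u u.2 s hs) hs ?_
          have := congrArg Subtype.val (h (φ ⟨s, Subgroup.subset_closure hs⟩))
          have h' : f s * f u = f u * f s := this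
          rw [map_mul, map_mul, map_inv, ← h', mul_inv_cancel_right]
        exact Subgroup.mem_centralizer_singleton_iff.2 (mul_inv_eq_iff_eq_mul.1 e).symm
      exact fun v => Subtype.ext (Subgroup.mem_centralizer_singleton_iff.1 (hle v.2))
    · intro h v
      obtain ⟨v, rfl⟩ := hφ v
      rw [← map_mul, h v, map_mul]
  refine ⟨(QuotientGroup.quotientMulEquivOfEq hker.symm).trans (QuotientGroup.quotientKerEquivOfSurjective π hπ), ?_⟩
  ext q
  constructor
  · rintro ⟨_, ⟨u, hu, rfl⟩, rfl⟩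
    exact ⟨φ u, ⟨u, hu, rfl⟩, rfl⟩
  · rintro ⟨w, hw, rfl⟩
    obtain ⟨s, hs, e⟩ := hw
    have : φ ⟨s, Subgroup.subset_closure hs⟩ = w := Subtype.ext e
    subst this
    exact ⟨_, ⟨⟨s, Subgroup.subset_closure hs⟩, hs, rfl⟩, rfl⟩

/-- Reflection type passes along an isomorphism. -/
theorem IsRefl.of_equiv {G G' : Type*} [Group G] [Group G'] {D : Set G} {D' : Set G'} (e : G ≃* G') (he : e '' D = D')
    {n : ℕ} {μ c : ZMod 3} (h : IsRefl G' D' n μ c) : IsRefl G D n μ c := by
  obtain ⟨Q, h1, h2, h3, e', he'⟩ := h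
  exact ⟨Q, h1, h2, h3, e.trans e', by rw [← he', ← he, Set.image_image]; rfl⟩

/-- Reflection type of the class generated by a set, along a homomorphism injective on it. -/
theorem isRefl_map_iff (f : A →* B) (S : Set A) (hconj : ∀ u ∈ Subgroup.closure S, ∀ s ∈ S, u * s * u⁻¹ ∈ S)
    (hinj : Set.InjOn f S) {T : Set B} (hT : T = f '' S) {n : ℕ} {μ c : ZMod 3} :
    IsRefl (↥(Subgroup.closure S) ⧸ Subgroup.center ↥(Subgroup.closure S)) (Relations.image S) n μ c ↔
      IsRefl (↥(Subgroup.closure T) ⧸ Subgroup.center ↥(Subgroup.closure T)) (Relations.image T) n μ c := by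
  subst hT
  obtain ⟨e, he⟩ := quot_map f S hconj hinj
  exact ⟨IsRefl.of_equiv e.symm (by rw [← he, Set.image_image]; simp), IsRefl.of_equiv e he⟩

/-- A class of reflections in dimension at least five: one class, trivial centre and cores, a commuting pair. -/
theorem refl_facts {G : Type*} [Group G] [Finite G] {D : Set G} {n : ℕ} {μ c : ZMod 3} (hn : 5 ≤ n)
    (h : IsRefl G D n μ c) :
    Trans D ∧ (∃ a ∈ D, ∃ b ∈ D, a ≠ b ∧ Commute a b) ∧
      Cfsg.pCore 2 G = ⊥ ∧ Cfsg.pCore 3 G = ⊥ := by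
  classical
  have : Fact (Nat.Prime 3) := ⟨Nat.prime_three⟩
  obtain ⟨Q, hQ, -, hc, e, he⟩ := h
  have hS := Linear.Orth.reflections_geometric (Linear.Orth.space_of_quadraticForm Q hQ) (by simpa using hn) hc
  set R := {g : ↥(Cfsg.reflectionSubgroup (⇑Q) c) |
    (g : ↥(Cfsg.isometryGroup (ZMod 3) (⇑Q))) ∈ Cfsg.reflectionsOfNorm (⇑Q) c}
  have hT := trans_of_class hS.quotient_class
  have hp := hS.quotient_primitive
  obtain ⟨a, ha, b, hb, hab, hcab⟩ := hS.exPair
  have hw : ∃ x ∈ QuotientGroup.mk' (Subgroup.center ↥(Cfsg.reflectionSubgroup (⇑Q) c)) '' R, ∃ y ∈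
      QuotientGroup.mk' (Subgroup.center ↥(Cfsg.reflectionSubgroup (⇑Q) c)) '' R, x ≠ y ∧ Commute x y :=
    ⟨_, Set.mem_image_of_mem _ ha, _, Set.mem_image_of_mem _ hb, fun e' => hab (hS.injOn ha hb e'), hcab.map _⟩
  obtain ⟨h2, h3⟩ := core_le_center_of_primitive hT hp hw
  rw [hS.center_quotient] at h2 h3
  have key : ∀ p, Cfsg.pCore p (↥(Cfsg.reflectionSubgroup (⇑Q) c) ⧸
      Subgroup.center ↥(Cfsg.reflectionSubgroup (⇑Q) c)) ≤ ⊥ → Cfsg.pCore p G = ⊥ := fun p hp' => by
    rw [← Lib.Core.map_pCore_equiv e.symm, le_bot_iff.1 hp', Subgroup.map_bot]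
  have hmem : ∀ x, x ∈ D ↔ e x ∈ QuotientGroup.mk' (Subgroup.center ↥(Cfsg.reflectionSubgroup (⇑Q) c)) '' R := by
    intro x
    rw [show QuotientGroup.mk' (Subgroup.center ↥(Cfsg.reflectionSubgroup (⇑Q) c)) '' R = e '' D from he.symm,
      e.injective.mem_set_image]
  refine ⟨⟨⟨fun x hx => ?_, fun x hx y hy => ?_⟩, fun g x hx => ?_, fun x hx y hy => ?_, ?_, ?_⟩, ?_,
    key 2 h2, key 3 h3⟩
  · rw [← hT.set.1 _ ((hmem x).1 hx), MulEquiv.orderOf_eq]
  · exact (hT.set.2 _ ((hmem x).1 hx) _ ((hmem y).1 hy)).imp (fun h => e.injective (by simpa using h))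
      fun h => e.injective (by simpa using h)
  · rw [hmem, map_mul, map_mul, map_inv]
    exact hT.conj _ _ ((hmem x).1 hx)
  · obtain ⟨g, hg⟩ := hT.trans _ ((hmem x).1 hx) _ ((hmem y).1 hy)
    exact ⟨e.symm g, e.injective (by simpa using hg)⟩
  · refine Subgroup.map_injective (f := e.toMonoidHom) e.injective ?_
    rw [MonoidHom.map_closure, Subgroup.map_top_of_surjective _ e.surjective, ← hT.gen]
    exact congrArg Subgroup.closure he
  · obtain ⟨x, hx⟩ := hT.ne
    exact ⟨e.symm x, (hmem _).2 (by simpa using hx)⟩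
  · obtain ⟨x, hx, y, hy, hxy, hcxy⟩ := hw
    exact ⟨e.symm x, (hmem _).2 (by simpa using hx), e.symm y, (hmem _).2 (by simpa using hy),
      fun h => hxy (e.symm.injective h), hcxy.map e.symm⟩

end Cfsg.Lib.Fischer.Thm.M23
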